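import Cfsg.Agent.TwoNilCent.Uniq
import Cfsg.Agent.Bender.StructureMain
import Cfsg.Agent.CITGroups.Basic
import Cfsg.Agent.SmallSimple.L33Order.Central
import Cfsg.Agent.GWApps.QDCentralizer

/-!
# In 2-rank at least three the centralisers of involutions are 2-groups
-/

set_option autoImplicit false
set_option linter.style.haveILetI false
set_option linter.unusedSectionVars false

namespace CfsgLib.TwoNilCent

open Subgroup

universe u

variable {G : Type u} [Group G] [Finite G] [IsSimpleGroup G]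

/-- The odd cores of the centralisers of involutions are trivial. -/
theorem core_eq_bot (hna : ¬ IsMulCommutative G) (hI : Hyp G) (h2 : ¬ Cfsg.PRankLE 2 2 G) {t : G}
    (ht : orderOf t = 2) : core t = ⊥ := by
  haveI : Fact (Nat.Prime 2) := ⟨Nat.prime_two⟩
  have hno : ∀ K : Subgroup G, K.index ≠ 2 :=
    GWApps.no_index_two_of_perfect (CfsgLib.L33Order.perfect hna)
  obtain ⟨A₀, hA₀⟩ : ∃ A : Subgroup G, Big A := by
    simp only [Cfsg.PRankLE, not_forall, not_le] at h2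
    obtain ⟨A, hA, hexp, hc⟩ := h2
    obtain ⟨k, hk⟩ := IsPGroup.iff_card.1 (show IsPGroup 2 A from fun x =>
      ⟨1, Subtype.ext (by simpa using hexp x x.2)⟩)
    refine ⟨A, ⟨hA, hexp⟩, ?_⟩
    rw [hk] at hc ⊢
    exact le_trans (by norm_num) (Nat.pow_le_pow_right (show 1 ≤ 2 by norm_num)
      ((Nat.pow_lt_pow_iff_right (by norm_num)).1 hc : 2 < k))
  obtain ⟨S, hA₀S⟩ := (Signalizer.isPGroup hA₀.1).exists_le_sylow
  obtain ⟨F⟩ := nonempty_four S hA₀ hA₀S
  suffices hW : F.W = ⊥ by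
    obtain ⟨g, A, hA, hAS, htA⟩ := exists_big_conj F hI hA₀ hA₀S hno ht
    have h : core (g * t * g⁻¹) ≤ F.W := gen_eq_W F hI hA hAS ▸
      core_le_gen htA (fun e => Invol.ne_one ht (conj_eq_one_iff.1 e))
    rw [hW, le_bot_iff, core_conj,
      Subgroup.map_eq_bot_iff_of_injective _ (MulAut.conj g).injective] at h
    exact h
  by_contra hW
  have hev : 2 ∣ Nat.card G := ht ▸ orderOf_dvd_natCard t
  have hodd : Odd (Nat.card F.W) := gen_eq_W F hI hA₀ hA₀S ▸ odd_gen hI hA₀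
  have hHtop : F.H ≠ ⊤ := fun h => by
    rcases (normalizer_eq_top_iff.1 h).eq_bot_or_eq_top with h' | h'
    · exact hW h'
    · rw [h', card_top] at hodd
      exact Nat.not_even_iff_odd.2 hodd (even_iff_two_dvd.2 hev)
  have hSH := S_le_H F hI hA₀ hA₀S
  have hzS : F.z ∈ (S : Subgroup G) := F.le F.z_mem
  have hzord : orderOf F.z = 2 := Invol.orderOf_eq_two (sq_of_elem F.elem F.z_mem) F.z_ne
  have hse : Cfsg.IsStronglyEmbedded F.H := by
    refine ⟨hHtop, even_iff_two_dvd.2 (hzord ▸ Subgroup.orderOf_dvd_natCard F.H (hSH hzS)), ?_⟩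
    intro g hg
    refine Nat.not_even_iff_odd.1 fun he => hg ?_
    obtain ⟨⟨x, hxH, y, hy, hxy⟩, hx⟩ := exists_prime_orderOf_dvd_card' 2 (even_iff_two_dvd.1 he)
    rw [← Subgroup.orderOf_coe] at hx
    change orderOf x = 2 at hx
    replace hxy : g * y * g⁻¹ = x := hxy
    have hyord : orderOf y = 2 := by rwa [← hxy, Invol.orderOf_conj_eq] at hx
    obtain ⟨c, A, hA, -, hxA⟩ := exists_big_conj F hI hA₀ hA₀S hno hx
    set B := A.map (MulAut.conj c⁻¹).toMonoidHom
    have hxB : x ∈ B := ⟨c * x * c⁻¹, hxA, show c⁻¹ * (c * x * c⁻¹) * c⁻¹⁻¹ = x by group⟩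
    have hBC : B ≤ centralizer ({x} : Set G) :=
      Signalizer.le_centralizer_singleton (hA.map c⁻¹).1 hxB
    have h1 : g⁻¹ ∈ F.H := mover F hI hA₀ hA₀S (hA.map c⁻¹)
      (hBC.trans (cent_le F hI hA₀ hA₀S hno hx hxH)) fun b hb =>
        cent_le F hI hA₀ hA₀S hno hyord hy (mem_centralizer_singleton_iff.2 (by
          rw [show y = g⁻¹ * x * g⁻¹⁻¹ by rw [← hxy]; group, conj_mul, conj_mul,
            mem_centralizer_singleton_iff.1 (hBC hb)]))
    simpa using F.H.inv_mem h1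
  obtain ⟨T, hTH, hn, hT2, htr⟩ :=
    Bender.Consumers.shape_of_simple Bender.Consumers.structure_all hse
  have hST : (S : Subgroup G) ≤ T := fun s hs => by
    obtain ⟨i, hi⟩ := S.2 ⟨s, hs⟩
    exact Bender.Consumers.two_mem_of_shape hse hTH hn htr (hSH hs) (i := i)
      (congrArg Subtype.val hi)
  have hTS : T = (S : Subgroup G) := S.3 hT2 hST
  have hcomm : ∀ x ∈ T, ∀ a : G, Commute x a → ∀ f ∈ core a, f ∈ F.H → Commute f x := by
    intro x hx a hxa f hf hfH
    have h1 : f * x * f⁻¹ * x⁻¹ ∈ T :=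
      T.mul_mem ((mem_normalizer_iff.1 (hn hfH) x).1 hx) (T.inv_mem hx)
    have h2 : f * x * f⁻¹ * x⁻¹ ∈ core a := by
      rw [show f * x * f⁻¹ * x⁻¹ = f * (x * f⁻¹ * x⁻¹) by group]
      exact mul_mem hf (conj_core (mem_centralizer_singleton_iff.2 hxa.eq) (inv_mem hf))
    have h3 := eq_one_of_odd_two hT2 h1 (odd_of_mem (odd_core a) h2)
    exact mul_inv_eq_iff_eq_mul.1 (mul_inv_eq_one.1 h3)
  -- an element of odd order of `H` centralising `T` is trivial
  have hcoreH : F.H.normalCore = ⊥ :=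
    F.H.normalCore_normal.eq_bot_or_eq_top.resolve_right fun h =>
      hHtop (top_le_iff.1 (h ▸ F.H.normalCore_le))
  have hfree : ∀ f ∈ F.H, (∀ x ∈ T, Commute f x) → Odd (orderOf f) → f = 1 := by
    intro f hf hfT hfo
    rw [← mem_bot, ← hcoreH]
    intro p
    by_cases hp : p ∈ F.H
    · exact mul_mem (mul_mem hp hf) (inv_mem hp)
    set q := p⁻¹ with hq
    have hqH : q ∉ F.H := fun h => hp (by simpa [hq] using inv_mem h)
    have hfq : f * q ∉ F.H := fun h => hqH (by simpa using mul_mem (inv_mem hf) h)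
    obtain ⟨w, hw, hw'⟩ := htr (f * q) q hfq hqH
    have hc : Commute w f := (hfT w hw).symm
    have h1 : q⁻¹ * (w * f) * q ∈ F.H := by
      rwa [show q⁻¹ * (w * f) * q = q⁻¹ * (w * (f * q)) by group]
    have h2 := pow_mem h1 (orderOf f)
    rw [show (q⁻¹ * (w * f) * q) ^ orderOf f = q⁻¹ * (w * f) ^ orderOf f * q by
      simpa using conj_pow (a := q⁻¹) (b := w * f) (i := orderOf f),
      hc.mul_pow, pow_orderOf_eq_one, mul_one, mul_assoc] at h2
    have hwk := Bender.Consumers.shape_free hse hTH hT2 hqH (pow_mem hw _) h2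
    have hw1 : w = 1 := eq_one_of_odd_two hT2 hw (hfo.of_dvd_nat (orderOf_dvd_of_pow_eq_one hwk))
    rw [hw1, one_mul] at h1
    rwa [show p * f * p⁻¹ = q⁻¹ * f * q by rw [hq]; group]
  have hcz : core F.z = ⊥ := (eq_bot_iff_forall _).2 fun f hf => by
    have hfH := cent_le F hI hA₀ hA₀S hno hzord (hSH hzS) (core_le _ hf)
    exact hfree f hfH
      (fun x hx => hcomm x hx F.z (F.z_comm x (hTS ▸ hx)) f hf hfH)
      (odd_of_mem (odd_core _) hf)
  refine hW (le_bot_iff.1 ?_)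
  rw [← gen_eq_W F hI hA₀ hA₀S]
  refine iSup_le fun ⟨a, ha, ha1⟩ f hf => ?_
  have haord : orderOf a = 2 := Invol.orderOf_eq_two (sq_of_elem hA₀.1 ha) ha1
  have hfH := cent_le F hI hA₀ hA₀S hno haord (hSH (hA₀S ha)) (core_le _ hf)
  rw [← hcz]
  exact mem_core hI hzord (mem_centralizer_singleton_iff.2
    (hcomm F.z (hST hzS) a (F.z_comm a (hA₀S ha)).symm f hf hfH).eq) (odd_of_mem (odd_core _) hf)

theorem isCIT (hna : ¬ IsMulCommutative G) (hI : Hyp G) (h2 : ¬ Cfsg.PRankLE 2 2 G) :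
    CIT.IsCIT G := by
  intro t ht
  have h : Cfsg.pPrimeCore 2 ↥(centralizer ({t} : Set G)) = ⊥ :=
    (Subgroup.map_eq_bot_iff_of_injective _ (subtype_injective _)).1 (core_eq_bot hna hI h2 ht)
  exact (isPGroup_quot (hI t ht)).of_equiv
    ((QuotientGroup.quotientMulEquivOfEq h).trans QuotientGroup.quotientBot)

end CfsgLib.TwoNilCent
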