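import Cfsg.Agent.TwoNilCent.Basic
import Cfsg.Agent.S0516
import Cfsg.Agent.GW.Top.Statement
import Cfsg.Agent.GWApps.QDCentralizer
import Cfsg.Agent.U34Sylow.Shape
import Cfsg.Agent.U34Sylow.Three
import Cfsg.Agent.U3Type.Syl
import Cfsg.Agent.SmallSimple.L33Order.Central
import Mathlib.FieldTheory.Finite.GaloisField

/-!
# Simple groups of 2-rank at most two with 2-nilpotent centralisers of involutions
-/

set_option autoImplicit false
set_option linter.style.haveILetI false

namespace CfsgLib.TwoNilCent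

open Subgroup

universe u

variable {G : Type u} [Group G] [Finite G] [IsSimpleGroup G]

theorem oddCore_bot (hev : 2 ∣ Nat.card G) : Cfsg.oddCore G = ⊥ :=
  (inferInstance : (Cfsg.oddCore G).Normal).eq_bot_or_eq_top.resolve_right fun h => by
    have h1 : (Nat.card (Cfsg.oddCore G)).Coprime 2 :=
      CfsgLib.Solvable.coprime_card_pPrimeCore (G := G) 2
    rw [h, card_top] at h1
    exact absurd (Nat.eq_one_of_dvd_coprimes h1 hev dvd_rfl) (by norm_num)

theorem no_index_two (hna : ¬ IsMulCommutative G) (H : Subgroup G) : H.index ≠ 2 :=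
  GWApps.no_index_two_of_perfect (CfsgLib.L33Order.perfect hna) H

/-- Quasi-dihedral and wreathed Sylow 2-subgroups are excluded. -/
theorem qd_false (hna : ¬ IsMulCommutative G) (hI : Hyp G) (S : Sylow 2 G)
    (hS : Cfsg.IsQuasiDihedral (S : Subgroup G) ∨ Cfsg.IsWreathed (S : Subgroup G))
    {t : G} (ht : orderOf t = 2) : False := by
  haveI : Fact (Nat.Prime 2) := ⟨Nat.prime_two⟩
  obtain ⟨F, iF, iFF, hodd, ⟨e⟩⟩ := GWApps.qd_centralizer_mod_core
    (fun X _ _ _ S n hn hS => CfsgLib.GW.Top.statement X S n hn hS) S hS (no_index_two hna) t ht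
  have hp : IsPGroup 2 (Matrix.SpecialLinearGroup (Fin 2) F) :=
    ((isPGroup_quot (hI t ht)).to_subgroup _).of_equiv e
  obtain ⟨p, hpF⟩ := CharP.exists F
  obtain ⟨n, hpp, hn⟩ := FiniteField.card F p
  haveI := Fact.mk hpp
  set g : Matrix.SpecialLinearGroup (Fin 2) F :=
    ⟨Matrix.transvection 0 1 1, Matrix.det_transvection_of_ne _ _ (by decide) _⟩ with hg
  have hpow : ∀ k : ℕ, (g ^ k : Matrix.SpecialLinearGroup (Fin 2) F).1 =
      Matrix.transvection 0 1 (k : F) := by
    intro k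
    induction k with
    | zero => simp [Matrix.transvection_zero]
    | succ k ih =>
      rw [pow_succ, Matrix.SpecialLinearGroup.coe_mul, ih, hg, Nat.cast_succ]
      exact Matrix.transvection_mul_transvection_same 0 1 (by decide) _ _
  have hgp : g ^ p = 1 := Subtype.ext (by
    rw [hpow, CharP.cast_eq_zero, Matrix.transvection_zero]; rfl)
  have hg1 : g ≠ 1 := fun h => by
    have h1 := congrFun (congrFun (congrArg Subtype.val h) 0) 1
    simp [hg, Matrix.transvection, Matrix.single] at h1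
  obtain ⟨k, hk⟩ := hp g
  refine hg1 (orderOf_eq_one_iff.1 (Nat.eq_one_of_dvd_coprimes (Nat.Coprime.pow_left k ?_)
    (orderOf_dvd_of_pow_eq_one hk) (orderOf_dvd_of_pow_eq_one hgp)))
  refine Nat.coprime_two_left.2 ?_
  rw [hn] at hodd
  exact (Nat.odd_pow_iff n.2.ne').1 hodd

/-- A Sylow 2-subgroup of type `U₃(4)` is excluded. -/
theorem u34_false (hna : ¬ IsMulCommutative G) (hI : Hyp G) (S : Sylow 2 G)
    (h : CfsgLib.U3Type.Facts ↥(S : Subgroup G) 2) : False := by
  rcases CfsgLib.U34Sylow.exists_ctx S h with ⟨C, -⟩ | ⟨C, -⟩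
  · have hz : orderOf C.z = 2 := orderOf_eq_prime
      (by rw [sq]; exact (C.invol _ (C.Z_le C.z_mem)).2 C.z_mem) C.z_ne
    have hf : C.f ∈ core C.z :=
      mem_core hI hz (mem_centralizer_singleton_iff.2 C.f_z.eq) C.f_odd
    have hall : ∀ x ∈ (C.S : Subgroup G), x ∈ C.Z := by
      intro x hx
      refine C.f_fpf x hx ?_
      have h1 : C.f * x * C.f⁻¹ * x⁻¹ ∈ (C.S : Subgroup G) :=
        mul_mem ((mem_normalizer_iff.1 C.f_mem x).1 hx) (inv_mem hx)
      have h2 : C.f * x * C.f⁻¹ * x⁻¹ ∈ core C.z := by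
        rw [show C.f * x * C.f⁻¹ * x⁻¹ = C.f * (x * C.f⁻¹ * x⁻¹) by group]
        exact mul_mem hf (conj_core
          (mem_centralizer_singleton_iff.2 (C.central x hx _ C.z_mem).eq) (inv_mem hf))
      rw [eq_one_of_odd_two C.S.2 h1 (odd_of_mem (odd_core _) h2)]
      exact one_mem _
    have h1 := card_le_of_le (show (C.S : Subgroup G) ≤ C.Z from hall)
    rw [C.card_S, C.card_Z] at h1
    omega
  · exact C.false fun hc => hna ⟨⟨hc⟩⟩

theorem rank_two (hna : ¬ IsMulCommutative G) (hI : Hyp G) (h2 : Cfsg.PRankLE 2 2 G)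
    {t : G} (ht : orderOf t = 2) :
    (∃ (F : Type) (_ : Field F) (_ : Fintype F), 3 < Fintype.card F ∧
        Nonempty (G ≃* Matrix.ProjectiveSpecialLinearGroup (Fin 2) F)) ∨
      Nonempty (G ≃* ↥(alternatingGroup (Fin 7))) := by
  haveI : Fact (Nat.Prime 2) := ⟨Nat.prime_two⟩
  obtain ⟨S⟩ : Nonempty (Sylow 2 G) := inferInstance
  let K := GaloisField 2 4
  letI : Fintype K := Fintype.ofFinite K
  have hK : Fintype.card K = 16 := by
    rw [← Nat.card_eq_fintype_card, GaloisField.card 2 4 (by norm_num)]; norm_num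
  obtain ⟨P⟩ : Nonempty (Sylow 2 (Cfsg.PSU 3 K 4)) := inferInstance
  rcases Cfsg.Agent.S0516.result hna h2 S hK P with ⟨n, hn, hS⟩ | hq | hw | ⟨⟨e⟩⟩
  · haveI : Group.IsPerfect G := ⟨CfsgLib.L33Order.perfect hna⟩
    have hO := oddCore_bot (ht ▸ orderOf_dvd_natCard t)
    let q : G ⧸ Cfsg.oddCore G ≃* G :=
      (QuotientGroup.quotientMulEquivOfEq hO).trans QuotientGroup.quotientBot
    rcases CfsgLib.GW.Top.statement G S n hn hS with ⟨F, i1, i2, -, hF, ⟨f⟩⟩ | ⟨⟨f⟩⟩
    · exact Or.inl ⟨F, i1, i2, hF, ⟨q.symm.trans f⟩⟩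
    · exact Or.inr ⟨q.symm.trans f⟩
  · exact (qd_false hna hI S (Or.inl hq) ht).elim
  · exact (qd_false hna hI S (Or.inr hw) ht).elim
  · refine (u34_false hna hI S ?_).elim
    have h := CfsgLib.U3Type.facts_psu (F := K) (n := 2) (by norm_num)
      (by rw [Nat.card_eq_fintype_card, hK]; norm_num) P
    exact h.congr e.symm

end CfsgLib.TwoNilCent
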