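import Cfsg.Agent.Invol.Dihedral
import Cfsg.Agent.Solvable.Basics
import Cfsg.Agent.Signalizer.Basic
import Cfsg.Agent.Signalizer.Local
import Cfsg.Agent.DGroup.Fusion
import Cfsg.Prelude.Def_Transfer
import Cfsg.Prelude.Def_Local

/-!
# Groups in which the centraliser of every involution has a normal 2-complement: first facts
-/

set_option autoImplicit false
set_option linter.style.haveILetI false
set_option linter.unusedSectionVars false

namespace CfsgLib.TwoNilCent

open Subgroup

universe u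

/-- The centraliser of every involution has a normal 2-complement. -/
def Hyp (G : Type u) [Group G] : Prop :=
  ∀ t : G, orderOf t = 2 → Cfsg.HasNormalPComplement 2 ↥(centralizer ({t} : Set G))

section TwoNilpotent

variable {C : Type u} [Group C] [Finite C] (h : Cfsg.HasNormalPComplement 2 C)

include h

/-- Modulo the odd core the group is a 2-group. -/
theorem isPGroup_quot : IsPGroup 2 (C ⧸ Cfsg.pPrimeCore 2 C) := by
  haveI : Fact (Nat.Prime 2) := ⟨Nat.prime_two⟩
  obtain ⟨P, N, hN, hc⟩ := h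
  haveI := hN
  have hcop : (Nat.card N).Coprime 2 := by
    rw [← hc.index_eq_card]
    exact ((Nat.Prime.coprime_iff_not_dvd Nat.prime_two).2 P.not_dvd_index).symm
  have hle : N ≤ Cfsg.pPrimeCore 2 C := CfsgLib.Solvable.le_pPrimeCore 2 hN hcop
  obtain ⟨k, hk⟩ := IsPGroup.iff_card.1 P.2
  have hd : (Cfsg.pPrimeCore 2 C).index ∣ 2 ^ k :=
    (index_dvd_of_le hle).trans (dvd_of_eq (by rw [hc.symm.index_eq_card, hk]))
  obtain ⟨j, -, hj⟩ := (Nat.dvd_prime_pow Nat.prime_two).1 hd
  exact IsPGroup.of_card (n := j) (by rw [← index_eq_card, hj])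

/-- The elements of odd order lie in the odd core. -/
theorem mem_core_of_odd {c : C} (hc : Odd (orderOf c)) : c ∈ Cfsg.pPrimeCore 2 C := by
  obtain ⟨k, hk⟩ := isPGroup_quot h (c : C ⧸ Cfsg.pPrimeCore 2 C)
  have h1 := orderOf_dvd_of_pow_eq_one hk
  have h2 : orderOf (c : C ⧸ Cfsg.pPrimeCore 2 C) ∣ orderOf c :=
    orderOf_map_dvd (QuotientGroup.mk' _) c
  have h3 := Nat.eq_one_of_dvd_coprimes ((Nat.coprime_two_left.2 hc).pow_left k) h1 h2
  exact (QuotientGroup.eq_one_iff c).1 (orderOf_eq_one_iff.1 h3)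

/-- The odd core and a Sylow 2-subgroup generate. -/
theorem core_sup_sylow (T : Sylow 2 C) : Cfsg.pPrimeCore 2 C ⊔ (T : Subgroup C) = ⊤ := by
  haveI : Fact (Nat.Prime 2) := ⟨Nat.prime_two⟩
  obtain ⟨k, hk⟩ := IsPGroup.iff_card.1 (isPGroup_quot h)
  rw [← index_eq_card] at hk
  refine index_eq_one.1 (Nat.eq_one_of_dvd_coprimes (Nat.Coprime.pow_left k ?_)
    ((index_dvd_of_le le_sup_left).trans (dvd_of_eq hk))
    (index_dvd_of_le (le_sup_right : (T : Subgroup C) ≤ Cfsg.pPrimeCore 2 C ⊔ T)))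
  exact (Nat.Prime.coprime_iff_not_dvd Nat.prime_two).2 T.not_dvd_index

end TwoNilpotent

variable {G : Type u} [Group G] [Finite G]

/-- The odd core of the centraliser of `t`. -/
abbrev core (t : G) : Subgroup G := Cfsg.centralizerPPrimeCore 2 t

theorem odd_core (t : G) : Odd (Nat.card (core t)) := by
  haveI : Fact (Nat.Prime 2) := ⟨Nat.prime_two⟩
  exact Nat.coprime_two_right.1 (Signalizer.coprime_card_centralizerPPrimeCore t)

theorem core_le (t : G) : core t ≤ centralizer ({t} : Set G) := map_subtype_le _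

theorem odd_of_mem {x : G} {H : Subgroup G} (hH : Odd (Nat.card H)) (hx : x ∈ H) : Odd (orderOf x) :=
  hH.of_dvd_nat (H.orderOf_dvd_natCard hx)

theorem eq_one_of_odd_two {T : Subgroup G} (hT : IsPGroup 2 T) {x : G} (hx : x ∈ T)
    (ho : Odd (orderOf x)) : x = 1 := by
  obtain ⟨k, hk⟩ := hT ⟨x, hx⟩
  exact orderOf_eq_one_iff.1 (Nat.eq_one_of_dvd_coprimes ((Nat.coprime_two_left.2 ho).pow_left k)
    (orderOf_dvd_of_pow_eq_one (congrArg Subtype.val hk)) dvd_rfl)

theorem conj_core {t c x : G} (hc : c ∈ centralizer ({t} : Set G)) (hx : x ∈ core t) :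
    c * x * c⁻¹ ∈ core t :=
  (mem_normalizer_iff.1 (Signalizer.centralizer_le_normalizer_centralizerPPrimeCore t hc) x).1 hx

/-- An element of odd order centralising an involution lies in the odd core of its centraliser. -/
theorem mem_core (hI : Hyp G) {t x : G} (ht : orderOf t = 2) (hx : x ∈ centralizer ({t} : Set G))
    (ho : Odd (orderOf x)) : x ∈ core t :=
  ⟨⟨x, hx⟩, mem_core_of_odd (hI t ht) (by rwa [← Subgroup.orderOf_coe]), rfl⟩

/-- Balance. -/
theorem balance (hI : Hyp G) {a b : G} (hb : orderOf b = 2) :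
    core a ⊓ centralizer ({b} : Set G) ≤ core b := fun _ hx =>
  mem_core hI hb hx.2 (odd_of_mem (odd_core a) hx.1)

end CfsgLib.TwoNilCent
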