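import Cfsg.Agent.TwoNilCent.Basic
import Cfsg.Agent.Invol.NormalFourPair
import Cfsg.Agent.Invol.ThompsonTransfer
import Cfsg.Agent.OddCores.Functor
import Cfsg.Agent.S3224

/-!
# A normal four-group of a Sylow 2-subgroup and the elementary abelian subgroups of order 8
-/

set_option autoImplicit false
set_option linter.style.haveILetI false
set_option linter.unusedSectionVars false

namespace CfsgLib.TwoNilCent

open Subgroup

universe u

variable {G : Type u} [Group G] [Finite G]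

/-- An elementary abelian subgroup of order at least 8. -/
def Big (A : Subgroup G) : Prop := Cfsg.IsElementaryAbelian 2 A ∧ 8 ≤ Nat.card A

theorem elem_of_sq {A : Subgroup G} (h : ∀ a ∈ A, a * a = 1) : Cfsg.IsElementaryAbelian 2 A := by
  refine ⟨⟨⟨fun a b => Subtype.ext ?_⟩⟩, fun a ha => by rw [sq]; exact h a ha⟩
  have e : ∀ x : A, (x : G)⁻¹ = x := fun x => inv_eq_of_mul_eq_one_right (h x x.2)
  calc (a : G) * b = ((a * b : A) : G)⁻¹ := (e (a * b)).symm
    _ = (b : G)⁻¹ * (a : G)⁻¹ := mul_inv_rev _ _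
    _ = b * a := by rw [e a, e b]

theorem sq_of_elem {A : Subgroup G} (hA : Cfsg.IsElementaryAbelian 2 A) {a : G} (ha : a ∈ A) :
    a * a = 1 := by rw [← sq]; exact hA.2 a ha

theorem Big.map {A : Subgroup G} (hA : Big A) (g : G) : Big (A.map (MulAut.conj g).toMonoidHom) := by
  refine ⟨elem_of_sq ?_, ?_⟩
  · rintro _ ⟨a, ha, rfl⟩
    rw [← map_mul, sq_of_elem hA.1 ha, map_one]
  · rw [card_map_of_injective (f := (MulAut.conj g).toMonoidHom) (MulAut.conj g).injective]
    exact hA.2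

theorem exists_big_of_not_rankLE {H : Subgroup G} (h : ¬ Cfsg.PRankLE 2 2 H) :
    ∃ A : Subgroup G, A ≤ H ∧ Big A := by
  haveI : Fact (Nat.Prime 2) := ⟨Nat.prime_two⟩
  simp only [Cfsg.PRankLE, not_forall, not_le] at h
  obtain ⟨A, hA, hexp, hc⟩ := h
  refine ⟨A.map H.subtype, map_subtype_le _, elem_of_sq ?_, ?_⟩
  · rintro _ ⟨a, ha, rfl⟩
    rw [← map_mul, ← sq, hexp a ha, map_one]
  · rw [card_map_of_injective H.subtype_injective]
    obtain ⟨k, hk⟩ := IsPGroup.iff_card.1 (show IsPGroup 2 A from fun x =>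
      ⟨1, Subtype.ext (by simpa using hexp x x.2)⟩)
    rw [hk] at hc ⊢
    have h3 : 3 ≤ k := (Nat.pow_lt_pow_iff_right (by norm_num)).1 hc
    exact le_trans (by norm_num) (Nat.pow_le_pow_right (by norm_num) h3)

/-- A subgroup in which the product of two elements outside `N` lies in `N` meets `N` in index at
most two. -/
theorem card_le_two_mul (A N : Subgroup G) (h : ∀ a ∈ A, ∀ b ∈ A, a ∉ N → b ∉ N → a * b ∈ N) :
    Nat.card A ≤ 2 * Nat.card ↥(A ⊓ N) := by
  by_cases hall : ∀ a ∈ A, a ∈ N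
  · rw [inf_eq_left.2 hall]
    omega
  push Not at hall
  obtain ⟨a, ha, haN⟩ := hall
  classical
  rw [two_mul, ← Nat.card_sum]
  refine Nat.card_le_card_of_surjective
    (Sum.elim (fun x : ↥(A ⊓ N) => (⟨x, x.2.1⟩ : A))
      (fun x : ↥(A ⊓ N) => (⟨a⁻¹ * x, mul_mem (inv_mem ha) x.2.1⟩ : A))) fun y => ?_
  by_cases hy : (y : G) ∈ N
  · exact ⟨Sum.inl ⟨y, y.2, hy⟩, rfl⟩
  · exact ⟨Sum.inr ⟨a * y, mul_mem ha y.2, h a ha y y.2 haN hy⟩,
      Subtype.ext (inv_mul_cancel_left a (y : G))⟩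

/-- A four-group `E = ⟨z, u⟩` normal in `S`, with `z` central in `S`. -/
structure Four (S : Sylow 2 G) where
  E : Subgroup G
  z : G
  u : G
  elem : Cfsg.IsElementaryAbelian 2 E
  card : Nat.card E = 4
  le : E ≤ (S : Subgroup G)
  z_mem : z ∈ E
  z_ne : z ≠ 1
  z_comm : ∀ s ∈ (S : Subgroup G), Commute s z
  prod : ∀ a ∈ (S : Subgroup G), ∀ b ∈ (S : Subgroup G),
    a ∉ centralizer (E : Set G) → b ∉ centralizer (E : Set G) → a * b ∈ centralizer (E : Set G)

theorem nonempty_four (S : Sylow 2 G) {A : Subgroup G} (hA : Big A) (hAS : A ≤ (S : Subgroup G)) :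
    Nonempty (Four S) := by
  haveI : Fact (Nat.Prime 2) := ⟨Nat.prime_two⟩
  obtain ⟨k, hk⟩ := IsPGroup.iff_card.1 (Signalizer.isPGroup hA.1)
  have hk3 : 3 ≤ k := by
    by_contra hlt
    have := Nat.pow_le_pow_right (show 1 ≤ 2 by norm_num) (show k ≤ 2 by omega)
    have h8 := hA.2
    rw [hk] at h8
    omega
  obtain ⟨D, hD8⟩ := Sylow.exists_subgroup_card_pow_prime (G := A) 2 (n := 3)
    (hk ▸ pow_dvd_pow 2 hk3)
  have hmap : Nat.card (D.map A.subtype) = 8 := by
    rw [card_map_of_injective A.subtype_injective, hD8]; norm_num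
  have hDA : D.map A.subtype ≤ A := map_subtype_le _
  obtain ⟨z', u', hz2', hz1', hzc', hu2', hu1', huz', huR'⟩ :=
    NormalFourPair.exists_pair _ (S : Subgroup G) rfl S.2
      ((D.map A.subtype).subgroupOf (S : Subgroup G))
      ((Nat.card_congr (subgroupOfEquivOfLe (hDA.trans hAS)).toEquiv).trans hmap)
      fun e he => Subtype.ext (sq_of_elem hA.1 (hDA he))
  have hz2 : (z' : G) * z' = 1 := congrArg Subtype.val hz2'
  have hu2 : (u' : G) * u' = 1 := congrArg Subtype.val hu2'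
  have hz1 : (z' : G) ≠ 1 := fun h => hz1' (Subtype.ext h)
  have hu1 : (u' : G) ≠ 1 := fun h => hu1' (Subtype.ext h)
  have huz : (u' : G) ≠ z' := fun h => huz' (Subtype.ext h)
  have hzS : ∀ g ∈ (S : Subgroup G), Commute g (z' : G) := fun g hg =>
    congrArg Subtype.val (hzc' ⟨g, hg⟩)
  obtain ⟨Z, hZc, hZ2, hzZ, -, hZcomm⟩ := NormalFourPair.exists_adjoin (⊥ : Subgroup G)
    (fun k hk => by simp [mem_bot.1 hk]) hz2 (fun k hk => by simp [mem_bot.1 hk]) (by simpa using hz1)
  rw [card_bot, mul_one] at hZc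
  have huZ : (u' : G) ∉ Z := by
    intro h
    obtain ⟨w, -, hw⟩ := (Nat.card_eq_two_iff' (1 : Z)).1 hZc
    have e1 := (hw ⟨u', h⟩ fun e => hu1 (congrArg Subtype.val e)).trans
      (hw ⟨z', hzZ⟩ fun e => hz1 (congrArg Subtype.val e)).symm
    exact huz (congrArg (fun w : Z => (w : G)) e1)
  have hcz : ∀ g : G, Commute g (z' : G) → ∀ k ∈ Z, Commute g k := fun g hg =>
    hZcomm g (fun k hk => by simp [mem_bot.1 hk]) hg
  obtain ⟨U, hUc, hU2, huU, hZU, hUcomm⟩ := NormalFourPair.exists_adjoin Z hZ2 hu2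
    (hcz _ (hzS _ u'.2)) huZ
  rw [hZc] at hUc
  have hUe := elem_of_sq hU2
  have hzU : (z' : G) ∈ U := hZU hzZ
  have hE : U ≤ (S : Subgroup G) := by
    set B := U ⊓ (S : Subgroup G)
    have h3 : 3 ≤ Nat.card B := by
      classical
      haveI := Fintype.ofFinite B
      rw [Nat.card_eq_fintype_card]
      refine le_trans (le_of_eq ?_) (Finset.card_le_univ
        ({1, ⟨z', hzU, z'.2⟩, ⟨u', huU, u'.2⟩} : Finset B))
      rw [Finset.card_insert_of_notMem, Finset.card_pair]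
      · exact fun h => huz (congrArg Subtype.val h).symm
      · simp only [Finset.mem_insert, Finset.mem_singleton, not_or]
        exact ⟨fun h => hz1 (congrArg Subtype.val h).symm, fun h => hu1 (congrArg Subtype.val h).symm⟩
    obtain ⟨c, hc⟩ := card_dvd_of_le (inf_le_left : B ≤ U)
    rw [hUc] at hc
    have h4 : 4 ≤ Nat.card B := by
      by_contra hlt
      have h3' : Nat.card B = 3 := by omega
      rw [h3'] at hc
      omega
    exact inf_eq_left.1 (eq_of_le_of_card_ge inf_le_left (by rw [hUc]; exact h4))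
  refine ⟨⟨U, z', u', hUe, hUc, hE, hzU, hz1, hzS, fun a ha b hb haE hbE => ?_⟩⟩
  have key : ∀ g ∈ (S : Subgroup G), g * (u' : G) * g⁻¹ = u' → g ∈ centralizer (U : Set G) :=
    fun g hg hgu => mem_centralizer_iff.2 fun x hx =>
      (hUcomm g (hcz g (hzS g hg)) (mul_inv_eq_iff_eq_mul.1 hgu) x hx).symm.eq
  have hconj : ∀ g ∈ (S : Subgroup G), g ∉ centralizer (U : Set G) →
      g * (u' : G) * g⁻¹ = u' * z' := fun g hg hgU => by
    have h := huR' ⟨g, hg⟩
    rcases h with h | h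
    · exact absurd (key g hg (congrArg Subtype.val h)) hgU
    · exact congrArg Subtype.val h
  refine key _ (mul_mem ha hb) ?_
  calc a * b * (u' : G) * (a * b)⁻¹ = a * (b * (u' : G) * b⁻¹) * a⁻¹ := by group
    _ = (a * (u' : G) * a⁻¹) * (a * (z' : G) * a⁻¹) := by rw [hconj b hb hbE]; group
    _ = u' := by
      rw [hconj a ha haE, (hzS a ha).eq, mul_inv_cancel_right, mul_assoc, hz2, mul_one]

namespace Four

variable {S : Sylow 2 G} (F : Four S)

theorem le_cent : F.E ≤ centralizer (F.E : Set G) := Signalizer.le_centralizer_of_le F.elem le_rfl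

/-- Every elementary abelian subgroup of order at least 8 meets an overgroup of `E` in order at
least 4. -/
theorem connect {A : Subgroup G} (hA : Big A) (hAS : A ≤ (S : Subgroup G)) :
    ∃ L : Subgroup G, Big L ∧ L ≤ (S : Subgroup G) ∧ F.E ≤ L ∧ 4 ≤ Nat.card ↥(A ⊓ L) ∧
      A ⊓ centralizer (F.E : Set G) ≤ L := by
  haveI : Fact (Nat.Prime 2) := ⟨Nat.prime_two⟩
  set B := A ⊓ centralizer (F.E : Set G)
  have h4 : 4 ≤ Nat.card B := by
    have h := card_le_two_mul A (centralizer (F.E : Set G))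
      (fun a ha b hb => F.prod a (hAS ha) b (hAS hb))
    have h8 := hA.2
    show 4 ≤ Nat.card ↥(A ⊓ centralizer (F.E : Set G))
    omega
  have hB : Cfsg.IsElementaryAbelian 2 B := Signalizer.of_le hA.1 inf_le_left
  have hBE : Cfsg.IsElementaryAbelian 2 (B ⊔ F.E : Subgroup G) :=
    OddCores.elementary_sup hB F.elem fun x hx y hy => (mem_centralizer_iff.1 hx.2 y hy).symm
  by_cases h8 : 8 ≤ Nat.card ↥(B ⊔ F.E)
  · exact ⟨B ⊔ F.E, ⟨hBE, h8⟩, sup_le (inf_le_left.trans hAS) F.le, le_sup_right,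
      h4.trans (card_le_of_le (le_inf inf_le_left le_sup_left)), le_sup_left⟩
  · obtain ⟨k, hk⟩ := IsPGroup.iff_card.1 (Signalizer.isPGroup hBE)
    have h44 : Nat.card ↥(B ⊔ F.E) ≤ 4 := by
      rw [hk] at h8 ⊢
      have hk3 : k < 3 := by
        by_contra hlt
        exact h8 (le_trans (by norm_num) (Nat.pow_le_pow_right (show 1 ≤ 2 by norm_num)
          (show 3 ≤ k by omega)))
      exact (Nat.pow_le_pow_right (show 1 ≤ 2 by norm_num) (show k ≤ 2 by omega)).trans (by norm_num)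
    have e1 : B = B ⊔ F.E := eq_of_le_of_card_ge le_sup_left (h44.trans h4)
    have e2 : F.E ≤ A := (le_sup_right.trans e1.ge).trans inf_le_left
    exact ⟨A, hA, hAS, e2, by rw [inf_idem]; have := hA.2; omega, inf_le_left⟩

/-- Involutions of `C_S(E)` lie in elementary abelian subgroups of order 8. -/
theorem exists_big_of_cent {A : Subgroup G} (hA : Big A) (hAS : A ≤ (S : Subgroup G)) {a : G}
    (haS : a ∈ (S : Subgroup G)) (haE : a ∈ centralizer (F.E : Set G)) (ha : orderOf a = 2) :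
    ∃ L : Subgroup G, Big L ∧ L ≤ (S : Subgroup G) ∧ a ∈ L := by
  haveI : Fact (Nat.Prime 2) := ⟨Nat.prime_two⟩
  by_cases h : a ∈ F.E
  · obtain ⟨L, h1, h2, h3, -⟩ := F.connect hA hAS
    exact ⟨L, h1, h2, h3 h⟩
  obtain ⟨L, hLc, hL2, haL, hEL, -⟩ := NormalFourPair.exists_adjoin F.E
    (fun k hk => sq_of_elem F.elem hk) (Invol.mul_self_eq_one ha)
    (fun k hk => (mem_centralizer_iff.1 haE k hk).symm) h
  refine ⟨F.E ⊔ zpowers a, ⟨Signalizer.of_le (elem_of_sq hL2) (sup_le hEL (zpowers_le.2 haL)), ?_⟩,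
    sup_le F.le (zpowers_le.2 haS), mem_sup_right (mem_zpowers a)⟩
  rw [sup_comm, Signalizer.card_sup_zpowers (elem_of_sq hL2) hEL haL h, F.card]

end Four

/-- An involution with a centralizer of order four excludes rank three. -/
theorem false_of_cent_four {S : Sylow 2 G} {A : Subgroup G} (hA : Big A)
    (hAS : A ≤ (S : Subgroup G)) {t : ↥(S : Subgroup G)} (ht : orderOf t = 2)
    (hC : Nat.card ↥(centralizer ({t} : Set ↥(S : Subgroup G))) = 4) : False := by
  haveI : Fact (Nat.Prime 2) := ⟨Nat.prime_two⟩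
  have hne : Nat.card ↥(S : Subgroup G) ≠ 4 := fun h => by
    have := card_le_of_le hAS
    have := hA.2
    omega
  obtain ⟨a, hidx, -, -⟩ := Cfsg.Agent.S3224.exists_cyclic _ _ rfl S.2 t ht hC hne
  set N := (zpowers a).map (S : Subgroup G).subtype
  have h1 := card_le_two_mul A N fun x hx y hy hxN hyN => by
    have hx' : (⟨x, hAS hx⟩ : ↥(S : Subgroup G)) ∉ zpowers a := fun h => hxN ⟨_, h, rfl⟩
    have hy' : (⟨y, hAS hy⟩ : ↥(S : Subgroup G)) ∉ zpowers a := fun h => hyN ⟨_, h, rfl⟩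
    exact ⟨⟨x, hAS hx⟩ * ⟨y, hAS hy⟩,
      (mul_mem_iff_of_index_two hidx).2 (iff_of_false hx' hy'), rfl⟩
  haveI : IsCyclic N := by
    have : IsCyclic (zpowers a) := inferInstance
    exact isCyclic_of_surjective ((S : Subgroup G).subtype.subgroupMap (zpowers a))
      ((S : Subgroup G).subtype.subgroupMap_surjective _)
  have hcyc : IsCyclic ↥(A ⊓ N) :=
    isCyclic_of_injective (Subgroup.inclusion inf_le_right) (Subgroup.inclusion_injective _)
  have h2 : Nat.card ↥(A ⊓ N) ≤ 2 := by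
    haveI := hcyc
    rw [← IsCyclic.exponent_eq_card]
    exact Nat.le_of_dvd two_pos (Monoid.exponent_dvd_of_forall_pow_eq_one fun x =>
      Subtype.ext (by simpa using hA.1.2 x x.2.1))
  have := hA.2
  omega

end CfsgLib.TwoNilCent
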