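import Cfsg.Agent.TwoNilCent.Four
import Cfsg.Agent.SFTCor.Equivariant
import Cfsg.Agent.S0217

/-!
# The uniqueness subgroup of the odd cores in 2-rank at least three
-/

set_option autoImplicit false
set_option linter.style.haveILetI false
set_option linter.unusedSectionVars false

namespace CfsgLib.TwoNilCent

open Subgroup

universe u

/-- An element outside a proper part of a 2-group normalising it. -/
theorem exists_norm {G : Type u} [Group G] [Finite G] {T : Subgroup G} (hT : IsPGroup 2 T)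
    {U : Subgroup G} (hU : U ≤ T) (hne : ¬ T ≤ U) :
    ∃ n ∈ T, n ∉ U ∧ ∀ x ∈ U, n * x * n⁻¹ ∈ U := by
  haveI : Fact (Nat.Prime 2) := ⟨Nat.prime_two⟩
  haveI := hT.isNilpotent
  have hlt : U.subgroupOf T < ⊤ := lt_top_iff_ne_top.2 fun h => hne (subgroupOf_eq_top.1 h)
  obtain ⟨n, hn, hnU⟩ := SetLike.exists_of_lt (Group.normalizerCondition_of_isNilpotent _ hlt)
  exact ⟨n, n.2, hnU, fun x hx => (mem_normalizer_iff.1 hn ⟨x, hU hx⟩).1 hx⟩

/-- A 2-subgroup of an overgroup of a Sylow 2-subgroup is conjugate into it there. -/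
theorem conj_into {G : Type u} [Group G] [Finite G] {S : Sylow 2 G} {H : Subgroup G}
    (hSH : (S : Subgroup G) ≤ H) {P : Subgroup G} (hPH : P ≤ H) (hP : IsPGroup 2 P) :
    ∃ h ∈ H, ∀ x ∈ P, h * x * h⁻¹ ∈ (S : Subgroup G) := by
  haveI : Fact (Nat.Prime 2) := ⟨Nat.prime_two⟩
  obtain ⟨R, hR⟩ := (hP.comap_of_injective H.subtype H.subtype_injective).exists_le_sylow
  obtain ⟨h, hh⟩ := MulAction.exists_smul_eq H R (S.subtype hSH)
  refine ⟨h, h.2, fun x hx => ?_⟩
  have h1 : h * ⟨x, hPH hx⟩ * h⁻¹ ∈ (S.subtype hSH : Subgroup H) := by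
    rw [← hh]
    exact smul_mem_pointwise_smul _ (MulAut.conj h) (R : Subgroup H)
      (hR (show (⟨x, hPH hx⟩ : H) ∈ P.comap H.subtype from hx))
  exact h1

variable {G : Type u} [Group G] [Finite G]

theorem allComplete : SFTCor.AllComplete 2 G :=
  fun A h1 h2 h3 θ h4 h5 h6 h7 h8 => by
    haveI : Fact (Nat.Prime 2) := ⟨Nat.prime_two⟩
    exact Cfsg.Agent.S0217.result A h1 h2 h3 θ h4 h5 h6 h7 h8

theorem core_props (t : G) :
    core t ≤ centralizer ({t} : Set G) ∧ ¬ 2 ∣ Nat.card ↥(core t) ∧ Group.IsSolvable ↥(core t) :=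
  ⟨core_le t, (odd_core t).not_two_dvd_nat, DGroup.solvable_of_odd _ (odd_core t)⟩

theorem core_conj (a g : G) :
    core (g * a * g⁻¹) = (core a).map (MulAut.conj g).toMonoidHom := by
  haveI : Fact (Nat.Prime 2) := ⟨Nat.prime_two⟩
  exact SFTCor.centralizerPPrimeCore_conj a g

theorem odd_gen (hI : Hyp G) {A : Subgroup G} (hA : Big A) :
    Odd (Nat.card ↥(SFTCor.gen core A)) := by
  haveI : Fact (Nat.Prime 2) := ⟨Nat.prime_two⟩
  refine Nat.not_even_iff_odd.1 fun h => ?_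
  exact (SFTCor.complete (p := 2) (θ := core) (fun a _ => core_props a)
    (fun a g _ => core_conj a g) (fun a b _ hb _ => balance hI hb.1) allComplete hA.1
    (by norm_num; exact hA.2)).1 (even_iff_two_dvd.1 h)

theorem gen_eq (hI : Hyp G) {B A : Subgroup G} (hA : Big A) (hBA : B ≤ A) (h4 : 4 ≤ Nat.card B) :
    SFTCor.gen core B = SFTCor.gen core A := by
  haveI : Fact (Nat.Prime 2) := ⟨Nat.prime_two⟩
  exact SFTCor.gen_eq (p := 2) (θ := core) (fun a _ => core_props a)
    (fun a g _ => core_conj a g) (fun a b _ hb _ => balance hI hb.1) allComplete hA.1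
    (by norm_num; exact hA.2) hBA (by norm_num; exact h4)

theorem map_gen_le (A : Subgroup G) (g : G) :
    (SFTCor.gen core A).map (MulAut.conj g).toMonoidHom ≤
      SFTCor.gen core (A.map (MulAut.conj g).toMonoidHom) := by
  rw [SFTCor.gen, Subgroup.map_iSup]
  refine iSup_le fun b => ?_
  rw [← core_conj]
  exact le_iSup (fun x : {x : G // x ∈ A.map (MulAut.conj g).toMonoidHom ∧ x ≠ 1} => core x.1)
    ⟨g * b * g⁻¹, ⟨b, b.2.1, rfl⟩, fun h => b.2.2 (conj_eq_one_iff.1 h)⟩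

theorem core_le_gen {A : Subgroup G} {a : G} (ha : a ∈ A) (ha1 : a ≠ 1) :
    core a ≤ SFTCor.gen core A :=
  le_iSup (fun x : {x : G // x ∈ A ∧ x ≠ 1} => core x.1) ⟨a, ha, ha1⟩

variable {S : Sylow 2 G} (F : Four S)

/-- The subgroup generated by the odd cores of the centralisers of the involutions of `E`. -/
def Four.W : Subgroup G := SFTCor.gen core F.E

/-- Its normaliser. -/
def Four.H : Subgroup G := normalizer (F.W : Set G)

variable (hI : Hyp G)
include F hI

theorem gen_eq_W {A : Subgroup G} (hA : Big A) (hAS : A ≤ (S : Subgroup G)) :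
    SFTCor.gen core A = F.W := by
  obtain ⟨L, hL, -, hEL, h4, -⟩ := F.connect hA hAS
  rw [← gen_eq hI hA inf_le_left h4, gen_eq hI hL inf_le_right h4, Four.W,
    gen_eq hI hL hEL F.card.ge]

theorem mem_H_of_map {A : Subgroup G} (hA : Big A) (hAS : A ≤ (S : Subgroup G)) {g : G}
    (hg : ∀ a ∈ A, g * a * g⁻¹ ∈ (S : Subgroup G)) : g ∈ F.H := by
  have hle : A.map (MulAut.conj g).toMonoidHom ≤ (S : Subgroup G) := by
    rintro _ ⟨a, ha, rfl⟩
    exact hg a ha
  have h1 := map_gen_le A g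
  rw [gen_eq_W F hI hA hAS, gen_eq_W F hI (hA.map g) hle] at h1
  have h2 : F.W.map (MulAut.conj g).toMonoidHom = F.W := eq_of_le_of_card_ge h1
    (card_map_of_injective (f := (MulAut.conj g).toMonoidHom) (MulAut.conj g).injective).ge
  refine mem_normalizer_iff.2 fun x => ?_
  constructor
  · intro hx
    exact h1 ⟨x, hx, rfl⟩
  · intro hx
    obtain ⟨y, hy, he⟩ := h2.symm ▸ (show g * x * g⁻¹ ∈ F.W from hx)
    have : y = x := (MulAut.conj g).injective he
    exact this ▸ hy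

variable {A₀ : Subgroup G} (hA₀ : Big A₀) (hA₀S : A₀ ≤ (S : Subgroup G))
include hA₀ hA₀S

theorem S_le_H : (S : Subgroup G) ≤ F.H := fun s hs =>
  mem_H_of_map F hI hA₀ hA₀S fun a ha => mul_mem (mul_mem hs (hA₀S ha)) (inv_mem hs)

/-- An element moving an elementary abelian subgroup of order 8 of `H` into `H` lies in `H`. -/
theorem mover {A : Subgroup G} (hA : Big A) (hAH : A ≤ F.H) {g : G}
    (hg : ∀ a ∈ A, g * a * g⁻¹ ∈ F.H) : g ∈ F.H := by
  haveI : Fact (Nat.Prime 2) := ⟨Nat.prime_two⟩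
  have hS := S_le_H F hI hA₀ hA₀S
  obtain ⟨h₁, hh₁, h1⟩ := conj_into hS hAH (Signalizer.isPGroup hA.1)
  obtain ⟨h₂, hh₂, h2⟩ := conj_into hS (P := A.map (MulAut.conj g).toMonoidHom)
    (by rintro _ ⟨a, ha, rfl⟩; exact hg a ha) (Signalizer.isPGroup (hA.map g).1)
  have h : h₂ * g * h₁⁻¹ ∈ F.H := by
    refine mem_H_of_map F hI (hA.map h₁) (by rintro _ ⟨a, ha, rfl⟩; exact h1 a ha) ?_
    rintro _ ⟨a, ha, rfl⟩
    show h₂ * g * h₁⁻¹ * (h₁ * a * h₁⁻¹) * (h₂ * g * h₁⁻¹)⁻¹ ∈ (S : Subgroup G)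
    rw [show h₂ * g * h₁⁻¹ * (h₁ * a * h₁⁻¹) * (h₂ * g * h₁⁻¹)⁻¹ = h₂ * (g * a * g⁻¹) * h₂⁻¹
      by group]
    exact h2 _ ⟨a, ha, rfl⟩
  have := mul_mem (mul_mem (inv_mem hh₂) h) hh₁
  rwa [show h₂⁻¹ * (h₂ * g * h₁⁻¹) * h₁ = g by group] at this

theorem core_le_H {A : Subgroup G} (hA : Big A) (hAH : A ≤ F.H) {a : G} (ha : a ∈ A) (ha1 : a ≠ 1) :
    core a ≤ F.H := by
  haveI : Fact (Nat.Prime 2) := ⟨Nat.prime_two⟩
  obtain ⟨h, hh, h1⟩ := conj_into (S_le_H F hI hA₀ hA₀S) hAH (Signalizer.isPGroup hA.1)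
  intro x hx
  have hle : A.map (MulAut.conj h).toMonoidHom ≤ (S : Subgroup G) := by
    rintro _ ⟨b, hb, rfl⟩
    exact h1 b hb
  have h2 : h * x * h⁻¹ ∈ F.W := by
    rw [← gen_eq_W F hI (hA.map h) hle]
    refine core_le_gen (A := A.map (MulAut.conj h).toMonoidHom) (a := h * a * h⁻¹) ⟨a, ha, rfl⟩ (fun e => ha1 (conj_eq_one_iff.1 e)) ?_
    rw [core_conj]
    exact ⟨x, hx, rfl⟩
  have h3 : h * x * h⁻¹ ∈ F.H := le_normalizer h2
  have := mul_mem (mul_mem (inv_mem hh) h3) hh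
  rwa [show h⁻¹ * (h * x * h⁻¹) * h = x by group] at this

/-- The centraliser of an involution lies in `H` once it contains such a subgroup of `H`. -/
theorem cent_le_of_big {A : Subgroup G} (hA : Big A) (hAH : A ≤ F.H) {a : G} (ha : a ∈ A)
    (hord : orderOf a = 2) : centralizer ({a} : Set G) ≤ F.H := by
  haveI : Fact (Nat.Prime 2) := ⟨Nat.prime_two⟩
  set C := centralizer ({a} : Set G) with hC
  have hAC : A ≤ C := Signalizer.le_centralizer_singleton hA.1 ha
  obtain ⟨T, hT⟩ := (((Signalizer.isPGroup hA.1)).comap_of_injective C.subtype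
    C.subtype_injective).exists_le_sylow
  set T' := (T : Subgroup C).map C.subtype with hT'
  have hAT : A ≤ T' := fun x hx => ⟨⟨x, hAC hx⟩, hT hx, rfl⟩
  have hTH : T' ≤ F.H := by
    by_contra hne
    obtain ⟨n, hn, hnU, hnorm⟩ := exists_norm (T.2.map C.subtype) (inf_le_left : T' ⊓ F.H ≤ T')
      fun h => hne (h.trans inf_le_right)
    exact hnU ⟨hn, mover F hI hA₀ hA₀S hA hAH fun x hx => (hnorm x ⟨hAT hx, hAH hx⟩).2⟩
  intro c hc
  have h1 : (⟨c, hc⟩ : C) ∈ Cfsg.pPrimeCore 2 C ⊔ (T : Subgroup C) := by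
    rw [core_sup_sylow (hI a hord) T]; exact mem_top _
  have hle : (Cfsg.pPrimeCore 2 C ⊔ (T : Subgroup C)).map C.subtype ≤ F.H := by
    rw [Subgroup.map_sup]
    exact sup_le (core_le_H F hI hA₀ hA₀S hA hAH ha (Invol.ne_one hord)) hTH
  exact hle ⟨_, h1, rfl⟩

variable (hno : ∀ K : Subgroup G, K.index ≠ 2)
include hno

/-- Every involution is conjugate into an elementary abelian subgroup of order 8 of `S`. -/
theorem exists_big_conj {x : G} (hx : orderOf x = 2) :
    ∃ (g : G) (A : Subgroup G), Big A ∧ A ≤ (S : Subgroup G) ∧ g * x * g⁻¹ ∈ A := by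
  haveI : Fact (Nat.Prime 2) := ⟨Nat.prime_two⟩
  suffices h : ∃ g : G, g * x * g⁻¹ ∈ (S : Subgroup G) ∧ g * x * g⁻¹ ∈ centralizer (F.E : Set G) by
    obtain ⟨g, h1, h2⟩ := h
    obtain ⟨L, hL, hLS, hgL⟩ :=
      F.exists_big_of_cent hA₀ hA₀S h1 h2 (by rw [Invol.orderOf_conj_eq, hx])
    exact ⟨g, L, hL, hLS, hgL⟩
  obtain ⟨R, hR⟩ := (IsPGroup.of_card (n := 1) (by rw [Nat.card_zpowers, hx, pow_one]) :
    IsPGroup 2 (zpowers x)).exists_le_sylow
  obtain ⟨b, hb⟩ := MulAction.exists_smul_eq G R S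
  have hxS : b * x * b⁻¹ ∈ (S : Subgroup G) := by
    rw [← hb]
    exact smul_mem_pointwise_smul x (MulAut.conj b) (R : Subgroup G) (hR (mem_zpowers x))
  by_cases hc : b * x * b⁻¹ ∈ centralizer (F.E : Set G)
  · exact ⟨b, hxS, hc⟩
  set Q := (S : Subgroup G) ⊓ centralizer (F.E : Set G)
  have hQ2 : Q.relIndex (S : Subgroup G) = 2 := by
    rw [relIndex, index_eq_two_iff]
    refine ⟨⟨_, hxS⟩, fun ⟨c, hcS⟩ => ?_⟩
    have hmem : ∀ s : (S : Subgroup G), s ∈ Q.subgroupOf (S : Subgroup G) ↔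
        (s : G) ∈ centralizer (F.E : Set G) := fun s => ⟨fun h => h.2, fun h => ⟨s.2, h⟩⟩
    rw [hmem, hmem]
    show Xor (c * (b * x * b⁻¹) ∈ centralizer (F.E : Set G)) (c ∈ centralizer (F.E : Set G))
    by_cases hcE : c ∈ centralizer (F.E : Set G)
    · exact Or.inr ⟨hcE, fun h => hc ((mul_mem_cancel_left hcE).1 h)⟩
    · exact Or.inl ⟨F.prod c hcS _ hxS hcE hc, hcE⟩
  have hodd : Odd (S : Subgroup G).index := Nat.not_even_iff_odd.1 fun h => S.not_dvd_index h.two_dvd
  rcases ThompsonTransfer.thompson_transfer (S : Subgroup G) Q hodd hQ2 (u := b * x * b⁻¹) (by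
      rw [conj_mul, Invol.mul_self_eq_one hx]; group) with ⟨M, -, hM, -⟩ | ⟨g, hg⟩
  · exact absurd hM (hno M)
  · refine ⟨g * b, ?_⟩
    rw [show g * b * x * (g * b)⁻¹ = g * (b * x * b⁻¹) * g⁻¹ by group]
    exact ⟨hg.1, hg.2⟩

/-- The centraliser of an involution of `S` lies in `H`, when `C_S(t)` is a maximal 2-subgroup of
`C_H(t)`. -/
theorem cent_le_of_max {t : G} (ht : orderOf t = 2) (htS : t ∈ (S : Subgroup G))
    (hmax : ∀ P : Subgroup G, IsPGroup 2 P → P ≤ centralizer ({t} : Set G) → P ≤ F.H →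
      (S : Subgroup G) ⊓ centralizer ({t} : Set G) ≤ P →
      P ≤ (S : Subgroup G) ⊓ centralizer ({t} : Set G)) :
    centralizer ({t} : Set G) ≤ F.H := by
  haveI : Fact (Nat.Prime 2) := ⟨Nat.prime_two⟩
  have hSH := S_le_H F hI hA₀ hA₀S
  set C := centralizer ({t} : Set G) with hC
  by_cases htE : t ∈ centralizer (F.E : Set G)
  · obtain ⟨L, hL, hLS, htL⟩ := F.exists_big_of_cent hA₀ hA₀S htS htE ht
    exact cent_le_of_big F hI hA₀ hA₀S hL (hLS.trans hSH) htL ht
  by_cases hgood : ∃ A : Subgroup G, Big A ∧ A ≤ (S : Subgroup G) ∧ t ∈ A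
  · obtain ⟨A, hA, hAS, htA⟩ := hgood
    exact cent_le_of_big F hI hA₀ hA₀S hA (hAS.trans hSH) htA ht
  exfalso
  have ht2 := Invol.mul_self_eq_one ht
  have hzS : F.z ∈ (S : Subgroup G) := F.le F.z_mem
  have hzE : F.z ∈ centralizer (F.E : Set G) := F.le_cent F.z_mem
  have hz2 : F.z * F.z = 1 := sq_of_elem F.elem F.z_mem
  have hztc : Commute t F.z := F.z_comm t htS
  have hzord : orderOf F.z = 2 := Invol.orderOf_eq_two hz2 F.z_ne
  -- the involutions of `C_M(t)`
  have hone : ∀ a ∈ (S : Subgroup G), a ∈ centralizer (F.E : Set G) → Commute a t → a * a = 1 →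
      a = 1 ∨ a = F.z := by
    intro a haS haE hat ha2
    by_contra hcon
    push Not at hcon
    obtain ⟨Z, hZc, hZ2, hzZ, -, hZcomm⟩ := NormalFourPair.exists_adjoin (⊥ : Subgroup G)
      (fun k hk => by simp [mem_bot.1 hk]) hz2 (fun k hk => by simp [mem_bot.1 hk])
      (by simpa using F.z_ne)
    rw [card_bot, mul_one] at hZc
    have hZmem : ∀ k ∈ Z, k = 1 ∨ k = F.z := by
      intro k hk
      by_contra hk'
      push Not at hk'
      obtain ⟨w, -, hw⟩ := (Nat.card_eq_two_iff' (1 : Z)).1 hZc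
      have e1 := (hw ⟨k, hk⟩ fun e => hk'.1 (congrArg Subtype.val e)).trans
        (hw ⟨F.z, hzZ⟩ fun e => F.z_ne (congrArg Subtype.val e)).symm
      exact hk'.2 (congrArg (fun v : Z => (v : G)) e1)
    have haZ : a ∉ Z := fun h => (hZmem a h).elim hcon.1 hcon.2
    obtain ⟨U, hUc, hU2, haU, hZU, hUcomm⟩ := NormalFourPair.exists_adjoin Z hZ2 ha2
      (fun k hk => by rcases hZmem k hk with rfl | rfl; exacts [Commute.one_right _, F.z_comm a haS]) haZ
    rw [hZc] at hUc
    have hUCE : ∀ v ∈ U, v ∈ centralizer (F.E : Set G) := fun v hv => by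
      refine mem_centralizer_iff.2 fun e he => ?_
      exact (hUcomm e (fun k hk => by
        rcases hZmem k hk with rfl | rfl
        exacts [Commute.one_right _, F.z_comm e (F.le he)]) (mem_centralizer_iff.1 haE e he) v hv).eq
    have hUt : ∀ v ∈ U, Commute t v := fun v hv => hUcomm t (fun k hk => by
      rcases hZmem k hk with rfl | rfl
      exacts [Commute.one_right _, hztc]) hat.symm v hv
    have htU : t ∉ U := fun h => htE (hUCE t h)
    obtain ⟨V, hVc, hV2, htV, hUV, -⟩ := NormalFourPair.exists_adjoin U hU2 ht2 hUt htU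
    rw [hUc] at hVc
    have hVe := elem_of_sq hV2
    set V' := V ⊓ (S : Subgroup G)
    have hV'S : V' ≤ (S : Subgroup G) := inf_le_right
    have hBig : Big (zpowers t ⊔ U) := by
      refine ⟨Signalizer.of_le hVe (sup_le (zpowers_le.2 htV) hUV), ?_⟩
      rw [Signalizer.card_sup_zpowers hVe hUV htV htU, hUc]
    refine hgood ⟨zpowers t ⊔ U, hBig, sup_le (zpowers_le.2 htS) ?_, mem_sup_left (mem_zpowers t)⟩
    -- `U` lies in `S`
    have hUS : U ≤ zpowers a ⊔ Z := by
      have hU := elem_of_sq hU2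
      refine (eq_of_le_of_card_ge (sup_le (zpowers_le.2 haU) hZU) ?_).ge
      rw [Signalizer.card_sup_zpowers hU hZU haU haZ, hZc, hUc]
    refine hUS.trans (sup_le (zpowers_le.2 haS) fun k hk => ?_)
    rcases hZmem k hk with rfl | rfl
    exacts [one_mem _, hzS]
  set T₀ := (S : Subgroup G) ⊓ C with hT₀
  have hT₀p : IsPGroup 2 T₀ := S.2.to_le inf_le_left
  have htC : t ∈ C := mem_centralizer_singleton_iff.2 rfl
  -- a larger 2-subgroup of `C(t)`
  obtain ⟨T, hT⟩ := (hT₀p.comap_of_injective C.subtype C.subtype_injective).exists_le_sylow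
  set T' := (T : Subgroup C).map C.subtype with hT'
  have hT₀T : T₀ ≤ T' := fun x hx => ⟨⟨x, hx.2⟩, hT hx, rfl⟩
  have hne : ¬ T' ≤ T₀ := by
    intro hle
    obtain ⟨g, A, hA, hAS, htA⟩ := exists_big_conj F hI hA₀ hA₀S hno ht
    set B := A.map (MulAut.conj g⁻¹).toMonoidHom
    have htB : t ∈ B := ⟨g * t * g⁻¹, htA, show g⁻¹ * (g * t * g⁻¹) * g⁻¹⁻¹ = t by group⟩
    have hBC : B ≤ C := Signalizer.le_centralizer_singleton (hA.map g⁻¹).1 htB
    obtain ⟨R, hR⟩ := ((Signalizer.isPGroup (hA.map g⁻¹).1).comap_of_injective C.subtype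
      C.subtype_injective).exists_le_sylow
    obtain ⟨c, hc⟩ := MulAction.exists_smul_eq C R T
    refine hgood ⟨B.map (MulAut.conj (c : G)).toMonoidHom, (hA.map g⁻¹).map _, ?_, t, htB, ?_⟩
    · rintro _ ⟨x, hx, rfl⟩
      have h1 : c * ⟨x, hBC hx⟩ * c⁻¹ ∈ (T : Subgroup C) := by
        rw [← hc]
        exact smul_mem_pointwise_smul _ (MulAut.conj c) (R : Subgroup C)
          (hR (show (⟨x, hBC hx⟩ : C) ∈ B.comap C.subtype from hx))
      exact (hle ⟨_, h1, rfl⟩).1
    · show (c : G) * t * (c : G)⁻¹ = t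
      rw [mem_centralizer_singleton_iff.1 c.2, mul_inv_cancel_right]
  obtain ⟨n, hn, hnT₀, hnorm⟩ := exists_norm (T.2.map C.subtype) hT₀T hne
  have hnC : n ∈ C := map_subtype_le _ hn
  have hnH : n ∉ F.H := fun h => hnT₀ (hmax (T' ⊓ F.H) ((T.2.map C.subtype).to_le inf_le_left)
    (inf_le_left.trans (map_subtype_le _)) inf_le_right
    (le_inf hT₀T (inf_le_left.trans hSH)) ⟨hn, h⟩)
  have hzC : F.z ∈ C := mem_centralizer_singleton_iff.2 hztc.symm.eq
  have hz' := hnorm F.z ⟨hzS, hzC⟩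
  set w := n * F.z * n⁻¹ with hw
  have hw2 : w * w = 1 := by rw [hw, conj_mul, hz2, mul_one, mul_inv_cancel]
  have hw1 : w ≠ 1 := fun h => F.z_ne (conj_eq_one_iff.1 h)
  have hwt : Commute w t := mem_centralizer_singleton_iff.1 hz'.2
  obtain ⟨A₁, hA₁, hA₁S, hzA₁⟩ := F.exists_big_of_cent hA₀ hA₀S hzS hzE hzord
  have hzH := cent_le_of_big F hI hA₀ hA₀S hA₁ (hA₁S.trans hSH) hzA₁ hzord
  have hwz : w ≠ F.z := fun h => hnH (hzH (mem_centralizer_singleton_iff.2
    (mul_inv_eq_iff_eq_mul.1 (hw ▸ h))))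
  have hwt' : w ≠ t := fun h => htE (by
    have e : F.z = t := by
      have h1 : n * F.z * n⁻¹ = n * t * n⁻¹ := by
        rw [← hw, h, mem_centralizer_singleton_iff.1 hnC, mul_inv_cancel_right]
      exact (MulAut.conj n).injective h1
    exact e ▸ hzE)
  have hwE : w ∉ centralizer (F.E : Set G) := fun h =>
    (hone w hz'.1 h hwt hw2).elim hw1 hwz
  have hwtz : w * t = F.z :=
    (hone (w * t) (mul_mem hz'.1 htS) (F.prod w hz'.1 t htS hwE htE)
      (hwt.mul_left (Commute.refl t)) (by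
        rw [hwt.symm.mul_mul_mul_comm, hw2, ht2, mul_one])).resolve_left fun h => hwt' (by
      rw [eq_inv_of_mul_eq_one_left h, inv_eq_of_mul_eq_one_right ht2])
  have hsq : ∀ x ∈ (S : Subgroup G), x * x ∈ centralizer (F.E : Set G) := fun x hx => by
    by_cases hxE : x ∈ centralizer (F.E : Set G)
    · exact mul_mem hxE hxE
    · exact F.prod x hx x hx hxE hxE
  -- `C_M(t)` has no element of order four
  have hexp : ∀ r ∈ T₀, r ∈ centralizer (F.E : Set G) → r * r = 1 := by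
    intro r hr hrE
    by_contra hr2
    obtain ⟨k, hk⟩ := hT₀p ⟨r, hr⟩
    replace hk : r ^ 2 ^ k = 1 := congrArg Subtype.val hk
    obtain ⟨r', hr', hr'E, hr'2, hr'4⟩ : ∃ r' ∈ T₀, r' ∈ centralizer (F.E : Set G) ∧
        r' * r' ≠ 1 ∧ r' * r' * (r' * r') = 1 := by
      induction k generalizing r with
      | zero => exact absurd (by rw [show r = 1 by simpa using hk, mul_one]) hr2
      | succ k ih =>
        by_cases h4 : r * r * (r * r) = 1
        · exact ⟨r, hr, hrE, hr2, h4⟩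
        · exact ih (r * r) (mul_mem hr hr) (mul_mem hrE hrE) h4 (by
            rw [← sq, ← pow_mul, ← pow_succ']; exact hk)
    have e : r' * r' = F.z := (hone (r' * r') (mul_mem hr'.1 hr'.1) (mul_mem hr'E hr'E)
      (by
        have h := mem_centralizer_singleton_iff.1 hr'.2
        exact Commute.mul_left h h) hr'4).resolve_left hr'2
    have h1 := hnorm r' hr'
    have h2 := hsq _ h1.1
    rw [conj_mul, e, ← hw] at h2
    exact hwE h2
  -- so `C_S(t)` has order four
  set tS : ↥(S : Subgroup G) := ⟨t, htS⟩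
  refine false_of_cent_four hA₀ hA₀S (t := tS) (by rwa [← Subgroup.orderOf_coe]) ?_
  set zS : ↥(S : Subgroup G) := ⟨F.z, hzS⟩
  have hset : (centralizer ({tS} : Set ↥(S : Subgroup G)) : Set ↥(S : Subgroup G)) =
      {1, zS, tS, tS * zS} := by
    ext x
    constructor
    · intro hx
      have hxt : Commute (x : G) t := congrArg Subtype.val (mem_centralizer_singleton_iff.1 hx)
      have hx0 : (x : G) ∈ T₀ := ⟨x.2, mem_centralizer_singleton_iff.2 hxt.eq⟩
      by_cases hxE : (x : G) ∈ centralizer (F.E : Set G)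
      · rcases hone x x.2 hxE hxt (hexp x hx0 hxE) with h | h
        · exact Or.inl (Subtype.ext h)
        · exact Or.inr (Or.inl (Subtype.ext h))
      · have h3 := F.prod t htS x x.2 htE hxE
        have h4 : t * (x : G) ∈ T₀ := mul_mem ⟨htS, htC⟩ hx0
        rcases hone (t * x) h4.1 h3 ((Commute.refl t).mul_left hxt) (hexp _ h4 h3) with h | h
        · refine Or.inr (Or.inr (Or.inl (Subtype.ext ?_)))
          show (x : G) = t
          rw [eq_inv_of_mul_eq_one_right h, inv_eq_of_mul_eq_one_right ht2]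
        · refine Or.inr (Or.inr (Or.inr (Subtype.ext ?_)))
          show (x : G) = t * F.z
          rw [← h, ← mul_assoc, ht2, one_mul]
    · intro hx
      refine mem_centralizer_singleton_iff.2 (Subtype.ext ?_)
      show (x : G) * t = t * x
      rcases hx with rfl | rfl | rfl | rfl
      · simp
      · exact hztc.symm.eq
      · rfl
      · show t * F.z * t = t * (t * F.z)
        rw [mul_assoc, hztc.symm.eq]
  have hzt : F.z ≠ t := fun h => htE (h ▸ hzE)
  show Nat.card ↥(centralizer ({tS} : Set ↥(S : Subgroup G)) : Set ↥(S : Subgroup G)) = 4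
  rw [Nat.card_coe_set_eq, hset]
  have e1 : (1 : ↥(S : Subgroup G)) ≠ zS := fun h => F.z_ne (congrArg Subtype.val h).symm
  have e2 : (1 : ↥(S : Subgroup G)) ≠ tS := fun h => Invol.ne_one ht (congrArg Subtype.val h).symm
  have e3 : (1 : ↥(S : Subgroup G)) ≠ tS * zS := fun h => hzt (by
    have h' : (1 : G) = t * F.z := congrArg Subtype.val h
    rw [eq_inv_of_mul_eq_one_right h'.symm, inv_eq_of_mul_eq_one_right ht2])
  have e4 : zS ≠ tS := fun h => hzt (congrArg Subtype.val h)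
  have e5 : zS ≠ tS * zS := fun h => e2 (right_eq_mul.1 h).symm
  have e6 : tS ≠ tS * zS := fun h => e1 (left_eq_mul.1 h).symm
  rw [Set.ncard_insert_of_notMem (by simp [e1, e2, e3]),
    Set.ncard_insert_of_notMem (by simp [e4, e5]), Set.ncard_pair e6]

/-- `H` contains the centralisers of its involutions. -/
theorem cent_le {t : G} (ht : orderOf t = 2) (htH : t ∈ F.H) :
    centralizer ({t} : Set G) ≤ F.H := by
  haveI : Fact (Nat.Prime 2) := ⟨Nat.prime_two⟩
  set K := centralizer ({t} : Set G) ⊓ F.H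
  have htK : t ∈ K := ⟨mem_centralizer_singleton_iff.2 rfl, htH⟩
  obtain ⟨T, hT⟩ := ((IsPGroup.of_card (n := 1) (by rw [Nat.card_zpowers, ht, pow_one]) :
    IsPGroup 2 (zpowers t)).comap_of_injective K.subtype K.subtype_injective).exists_le_sylow
  set T' := (T : Subgroup K).map K.subtype
  have htT : t ∈ T' := ⟨⟨t, htK⟩, hT (mem_zpowers t), rfl⟩
  obtain ⟨h, hh, h1⟩ := conj_into (S_le_H F hI hA₀ hA₀S) ((map_subtype_le _).trans inf_le_right)
    (T.2.map K.subtype)
  set t' := h * t * h⁻¹ with ht'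
  have key := cent_le_of_max F hI hA₀ hA₀S hno (t := t') (by rw [ht', Invol.orderOf_conj_eq, ht])
    (h1 t htT) (fun P hP hPC hPH hle => ?_)
  · intro c hc
    have h2 : h * c * h⁻¹ ∈ centralizer ({t'} : Set G) := mem_centralizer_singleton_iff.2 (by
      rw [ht', conj_mul, conj_mul, mem_centralizer_singleton_iff.1 hc])
    have h3 := mul_mem (mul_mem (inv_mem hh) (key h2)) hh
    rwa [show h⁻¹ * (h * c * h⁻¹) * h = c by group] at h3
  -- maximality
  set f := (MulAut.conj h⁻¹).toMonoidHom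
  have hPK : P.map f ≤ K := by
    rintro _ ⟨x, hx, rfl⟩
    refine ⟨mem_centralizer_singleton_iff.2 ?_, F.H.mul_mem (F.H.mul_mem (F.H.inv_mem hh) (hPH hx)) (F.H.inv_mem (F.H.inv_mem hh))⟩
    have h2 := mem_centralizer_singleton_iff.1 (hPC hx)
    show h⁻¹ * x * h⁻¹⁻¹ * t = t * (h⁻¹ * x * h⁻¹⁻¹)
    rw [show t = h⁻¹ * t' * h⁻¹⁻¹ by rw [ht']; group, conj_mul, conj_mul, h2]
  obtain ⟨R, hR⟩ := (((hP.map f)).comap_of_injective K.subtype K.subtype_injective).exists_le_sylow
  have hcard : Nat.card P ≤ Nat.card ↥((S : Subgroup G) ⊓ centralizer ({t'} : Set G)) := by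
    calc Nat.card P = Nat.card ↥(P.map f) :=
          (card_map_of_injective (f := f) (MulAut.conj h⁻¹).injective).symm
      _ = Nat.card ↥((P.map f).comap K.subtype) :=
          (Nat.card_congr (subgroupOfEquivOfLe hPK).toEquiv).symm
      _ ≤ Nat.card ↥(R : Subgroup K) := card_le_of_le hR
      _ = Nat.card ↥(T : Subgroup K) := Nat.card_congr (R.equiv T).toEquiv
      _ = Nat.card ↥(T'.map (MulAut.conj h).toMonoidHom) := by
          rw [card_map_of_injective (f := (MulAut.conj h).toMonoidHom) (MulAut.conj h).injective,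
            card_map_of_injective K.subtype_injective]
      _ ≤ _ := card_le_of_le (by
          rintro _ ⟨x, hx, rfl⟩
          refine ⟨h1 x hx, mem_centralizer_singleton_iff.2 ?_⟩
          obtain ⟨y, -, rfl⟩ := hx
          show h * (y : G) * h⁻¹ * t' = t' * (h * (y : G) * h⁻¹)
          rw [ht', conj_mul, conj_mul, mem_centralizer_singleton_iff.1 y.2.1])
  exact (eq_of_le_of_card_ge hle hcard).ge

end CfsgLib.TwoNilCent
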